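import Cfsg.Agent.H47.Y555.L9.Data

/-!
A checked coset table (generated data).
-/

set_option autoImplicit false
set_option maxRecDepth 100000
set_option linter.all false
set_option Elab.async false

namespace H47.Y555.L9

open H93.Coset

noncomputable section

theorem edge3_0 : data.edgesFast 3 0 1565 = true := by decide +kernel

theorem edge3_1 : data.edgesFast 3 1565 1565 = true := by decide +kernel

theorem edge3_2 : data.edgesFast 3 3130 1565 = true := by decide +kernel

theorem edge3_3 : data.edgesFast 3 4695 1565 = true := by decide +kernel

theorem edge3_4 : data.edgesFast 3 6260 1565 = true := by decide +kernel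

theorem edge3_5 : data.edgesFast 3 7825 1565 = true := by decide +kernel

theorem edge3_6 : data.edgesFast 3 9390 1565 = true := by decide +kernel

theorem edge3_7 : data.edgesFast 3 10955 1565 = true := by decide +kernel

theorem edge3_8 : data.edgesFast 3 12520 1565 = true := by decide +kernel

theorem edge3_9 : data.edgesFast 3 14085 1565 = true := by decide +kernel

theorem edge3_10 : data.edgesFast 3 15650 1565 = true := by decide +kernel

theorem edge3_11 : data.edgesFast 3 17215 1565 = true := by decide +kernel

theorem edge3_12 : data.edgesFast 3 18780 1565 = true := by decide +kernel

theorem edge3_13 : data.edgesFast 3 20345 1565 = true := by decide +kernel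

theorem edge3_14 : data.edgesFast 3 21910 1565 = true := by decide +kernel

theorem edge3_15 : data.edgesFast 3 23475 1565 = true := by decide +kernel

theorem edge3_16 : data.edgesFast 3 25040 1565 = true := by decide +kernel

theorem edge3_17 : data.edgesFast 3 26605 1555 = true := by decide +kernel

theorem edge4_0 : data.edgesFast 4 0 1565 = true := by decide +kernel

theorem edge4_1 : data.edgesFast 4 1565 1565 = true := by decide +kernel

theorem edge4_2 : data.edgesFast 4 3130 1565 = true := by decide +kernel

theorem edge4_3 : data.edgesFast 4 4695 1565 = true := by decide +kernel

theorem edge4_4 : data.edgesFast 4 6260 1565 = true := by decide +kernel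

theorem edge4_5 : data.edgesFast 4 7825 1565 = true := by decide +kernel

theorem edge4_6 : data.edgesFast 4 9390 1565 = true := by decide +kernel

theorem edge4_7 : data.edgesFast 4 10955 1565 = true := by decide +kernel

theorem edge4_8 : data.edgesFast 4 12520 1565 = true := by decide +kernel

theorem edge4_9 : data.edgesFast 4 14085 1565 = true := by decide +kernel

theorem edge4_10 : data.edgesFast 4 15650 1565 = true := by decide +kernel

theorem edge4_11 : data.edgesFast 4 17215 1565 = true := by decide +kernel

theorem edge4_12 : data.edgesFast 4 18780 1565 = true := by decide +kernel

theorem edge4_13 : data.edgesFast 4 20345 1565 = true := by decide +kernel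

theorem edge4_14 : data.edgesFast 4 21910 1565 = true := by decide +kernel

theorem edge4_15 : data.edgesFast 4 23475 1565 = true := by decide +kernel

theorem edge4_16 : data.edgesFast 4 25040 1565 = true := by decide +kernel

theorem edge4_17 : data.edgesFast 4 26605 1555 = true := by decide +kernel


end

end H47.Y555.L9
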