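import Cfsg.Agent.H47.Y555.L9.Data

/-!
A checked coset table (generated data).
-/

set_option autoImplicit false
set_option maxRecDepth 100000
set_option linter.all false
set_option Elab.async false

namespace H47.Y555.L9

open H93.Coset

noncomputable section

theorem edge7_0 : data.edgesFast 7 0 1565 = true := by decide +kernel

theorem edge7_1 : data.edgesFast 7 1565 1565 = true := by decide +kernel

theorem edge7_2 : data.edgesFast 7 3130 1565 = true := by decide +kernel

theorem edge7_3 : data.edgesFast 7 4695 1565 = true := by decide +kernel

theorem edge7_4 : data.edgesFast 7 6260 1565 = true := by decide +kernel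

theorem edge7_5 : data.edgesFast 7 7825 1565 = true := by decide +kernel

theorem edge7_6 : data.edgesFast 7 9390 1565 = true := by decide +kernel

theorem edge7_7 : data.edgesFast 7 10955 1565 = true := by decide +kernel

theorem edge7_8 : data.edgesFast 7 12520 1565 = true := by decide +kernel

theorem edge7_9 : data.edgesFast 7 14085 1565 = true := by decide +kernel

theorem edge7_10 : data.edgesFast 7 15650 1565 = true := by decide +kernel

theorem edge7_11 : data.edgesFast 7 17215 1565 = true := by decide +kernel

theorem edge7_12 : data.edgesFast 7 18780 1565 = true := by decide +kernel

theorem edge7_13 : data.edgesFast 7 20345 1565 = true := by decide +kernel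

theorem edge7_14 : data.edgesFast 7 21910 1565 = true := by decide +kernel

theorem edge7_15 : data.edgesFast 7 23475 1565 = true := by decide +kernel

theorem edge7_16 : data.edgesFast 7 25040 1565 = true := by decide +kernel

theorem edge7_17 : data.edgesFast 7 26605 1555 = true := by decide +kernel

theorem edge8_0 : data.edgesFast 8 0 1565 = true := by decide +kernel

theorem edge8_1 : data.edgesFast 8 1565 1565 = true := by decide +kernel

theorem edge8_2 : data.edgesFast 8 3130 1565 = true := by decide +kernel

theorem edge8_3 : data.edgesFast 8 4695 1565 = true := by decide +kernel

theorem edge8_4 : data.edgesFast 8 6260 1565 = true := by decide +kernel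

theorem edge8_5 : data.edgesFast 8 7825 1565 = true := by decide +kernel

theorem edge8_6 : data.edgesFast 8 9390 1565 = true := by decide +kernel

theorem edge8_7 : data.edgesFast 8 10955 1565 = true := by decide +kernel

theorem edge8_8 : data.edgesFast 8 12520 1565 = true := by decide +kernel

theorem edge8_9 : data.edgesFast 8 14085 1565 = true := by decide +kernel

theorem edge8_10 : data.edgesFast 8 15650 1565 = true := by decide +kernel

theorem edge8_11 : data.edgesFast 8 17215 1565 = true := by decide +kernel

theorem edge8_12 : data.edgesFast 8 18780 1565 = true := by decide +kernel

theorem edge8_13 : data.edgesFast 8 20345 1565 = true := by decide +kernel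

theorem edge8_14 : data.edgesFast 8 21910 1565 = true := by decide +kernel

theorem edge8_15 : data.edgesFast 8 23475 1565 = true := by decide +kernel

theorem edge8_16 : data.edgesFast 8 25040 1565 = true := by decide +kernel

theorem edge8_17 : data.edgesFast 8 26605 1555 = true := by decide +kernel


end

end H47.Y555.L9
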